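import Mathlib.RingTheory.Polynomial.Cyclotomic.Eval
import Mathlib.RingTheory.Polynomial.Cyclotomic.Expand
import Mathlib.RingTheory.Polynomial.Cyclotomic.Roots
import Mathlib.NumberTheory.Multiplicity
import Mathlib.FieldTheory.Finite.Basic
import Mathlib.Tactic.Linarith

/-!
Primitive prime divisors: Zsigmondy's theorem for `a ^ n - 1`.

`cyclotomicValue a n` is `Φ_n(a)` as a natural number.
-/

set_option autoImplicit false

namespace CfsgLib.Zsigmondy

open Polynomial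

/-- `Φ_n(a)` as a natural number. -/
noncomputable def cyclotomicValue (a n : ℕ) : ℕ := ((cyclotomic n ℤ).eval (a : ℤ)).natAbs

theorem natCast_eq_one_iff_dvd {a : ℕ} (ha : 0 < a) (r : ℕ) (k : ℕ) :
    r ∣ a ^ k - 1 ↔ (a : ZMod r) ^ k = 1 := by
  rw [← Nat.modEq_iff_dvd' (Nat.one_le_pow _ _ ha), ← ZMod.natCast_eq_natCast_iff, eq_comm]
  push_cast
  rfl

theorem cyclotomicValue_dvd_pow_sub_one {a : ℕ} (ha : 0 < a) (n : ℕ) :
    cyclotomicValue a n ∣ a ^ n - 1 := by
  have h := map_dvd (evalRingHom (a : ℤ)) (cyclotomic.dvd_X_pow_sub_one n ℤ)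
  simp only [coe_evalRingHom, eval_sub, eval_pow, eval_X, eval_one] at h
  have := Int.natAbs_dvd_natAbs.mpr h
  rwa [show ((a : ℤ) ^ n - 1).natAbs = a ^ n - 1 from ?_] at this
  rw [← Int.natAbs_natCast (a ^ n - 1)]
  congr 1
  rw [Nat.cast_sub (Nat.one_le_pow _ _ ha)]
  push_cast
  rfl

theorem isRoot_of_dvd {a n r : ℕ} [Fact r.Prime] (h : r ∣ cyclotomicValue a n) :
    (cyclotomic n (ZMod r)).IsRoot (a : ZMod r) := by
  have h1 : (((cyclotomic n ℤ).eval (a : ℤ) : ℤ) : ZMod r) = 0 :=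
    (ZMod.intCast_zmod_eq_zero_iff_dvd _ r).mpr (Int.natCast_dvd.mpr h)
  rw [IsRoot, ← map_cyclotomic n (Int.castRingHom (ZMod r))]
  rw [show (a : ZMod r) = (Int.castRingHom (ZMod r)) (a : ℤ) by simp, eval_map, eval₂_at_apply]
  simpa using h1

/-- The multiplicative order of `a` modulo a prime dividing `Φ_n(a)`. -/
theorem orderOf_of_dvd {a n r : ℕ} [hr : Fact r.Prime] (hn : 0 < n) (h : r ∣ cyclotomicValue a n) :
    ∃ k m : ℕ, n = r ^ k * m ∧ ¬ r ∣ m ∧ orderOf (a : ZMod r) = m ∧ m ∣ r - 1 := by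
  obtain ⟨k, m, hm, rfl⟩ := Nat.exists_eq_pow_mul_and_not_dvd hn.ne' r hr.out.ne_one
  refine ⟨k, m, rfl, hm, ?_⟩
  haveI : NeZero (m : ZMod r) := ⟨fun h0 => hm ((ZMod.natCast_eq_zero_iff m r).mp h0)⟩
  have hroot := isRoot_of_dvd h
  rw [isRoot_cyclotomic_prime_pow_mul_iff_of_charP] at hroot
  refine ⟨hroot.eq_orderOf.symm, ?_⟩
  rw [hroot.eq_orderOf]
  refine ZMod.orderOf_dvd_card_sub_one fun h0 => ?_
  have hm0 : m ≠ 0 := fun h => hm (h ▸ dvd_zero r)
  exact hroot.ne_zero hm0 h0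

theorem primitive_of_orderOf {a n r : ℕ} (ha : 0 < a) (h : orderOf (a : ZMod r) = n) :
    r ∣ a ^ n - 1 ∧ ∀ i : ℕ, 0 < i → i < n → ¬ r ∣ a ^ i - 1 := by
  refine ⟨(natCast_eq_one_iff_dvd ha r n).mpr (h ▸ pow_orderOf_eq_one _), fun i hi hin hd => ?_⟩
  exact pow_ne_one_of_lt_orderOf hi.ne' (h ▸ hin) ((natCast_eq_one_iff_dvd ha r i).mp hd)

/-- A primitive prime divisor is `1` modulo `n`. -/
theorem dvd_sub_one_of_primitive {a n r : ℕ} [Fact r.Prime] (ha : 0 < a) (hn : 0 < n)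
    (h : r ∣ a ^ n - 1) (hmin : ∀ i : ℕ, 0 < i → i < n → ¬ r ∣ a ^ i - 1) :
    orderOf (a : ZMod r) = n ∧ n ∣ r - 1 := by
  have h1 := (natCast_eq_one_iff_dvd ha r n).mp h
  have h2 : orderOf (a : ZMod r) = n := by
    refine le_antisymm (Nat.le_of_dvd hn (orderOf_dvd_of_pow_eq_one h1)) ?_
    by_contra hlt
    push Not at hlt
    refine hmin _ (orderOf_pos_iff.mpr (isOfFinOrder_iff_pow_eq_one.mpr ⟨n, hn, h1⟩)) hlt ?_
    exact (natCast_eq_one_iff_dvd ha r _).mpr (pow_orderOf_eq_one _)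
  refine ⟨h2, h2 ▸ ZMod.orderOf_dvd_card_sub_one fun h0 => ?_⟩
  rw [h0, zero_pow hn.ne'] at h1
  exact zero_ne_one h1

/-- A prime divisor of `Φ_n(a)` dividing `n` is the largest prime divisor of `n`. -/
theorem le_of_dvd_both {a n r q : ℕ} [hr : Fact r.Prime] (hn : 0 < n)
    (h : r ∣ cyclotomicValue a n) (hrn : r ∣ n) (hq : q.Prime) (hqn : q ∣ n) : q ≤ r := by
  obtain ⟨k, m, hnm, hm, -, hmr⟩ := orderOf_of_dvd hn h
  rw [hnm] at hqn
  rcases hq.dvd_mul.mp hqn with h1 | h1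
  · exact ((Nat.prime_dvd_prime_iff_eq hq hr.out).mp (hq.dvd_of_dvd_pow h1)).le
  · have := hr.out.two_le
    have := Nat.le_of_dvd (by omega) (h1.trans hmr)
    omega

/-- A prime divisor of `n` divides `Φ_n(a)` at most once (`n ≥ 3`). -/
theorem sq_not_dvd {a n r : ℕ} [hr : Fact r.Prime] (ha : 1 < a) (hn : 2 < n) (hrn : r ∣ n)
    (h : r ∣ cyclotomicValue a n) : ¬ r ^ 2 ∣ cyclotomicValue a n := by
  intro hsq
  obtain ⟨k, m, hnm, hm, hord, hmr⟩ := orderOf_of_dvd (by omega) h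
  have hk : 0 < k := by
    rcases k with _ | k
    · exact absurd (by simpa [hnm] using hrn) hm
    · omega
  have hr2 := hr.out.two_le
  set d := r ^ (k - 1) * m with hd
  have hdr : n = d * r := by
    rw [hnm, hd, show r ^ k = r ^ (k - 1) * r by rw [← pow_succ]; congr 1; omega]; ring
  have hdpos : 0 < d := by
    rcases Nat.eq_zero_or_pos d with h0 | h0
    · rw [h0, zero_mul] at hdr; omega
    · exact h0
  have hdn : d ∈ n.properDivisors := Nat.mem_properDivisors.mpr ⟨⟨r, hdr⟩, by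
    rw [hdr]; exact lt_mul_of_one_lt_right hdpos hr.out.one_lt⟩
  have h1 := map_dvd (evalRingHom (a : ℤ)) (X_pow_sub_one_mul_cyclotomic_dvd_X_pow_sub_one_of_dvd ℤ hdn)
  simp only [coe_evalRingHom, eval_mul, eval_sub, eval_pow, eval_X, eval_one] at h1
  set b : ℤ := (a : ℤ) ^ d with hb
  have hbn : (a : ℤ) ^ n = b ^ r := by rw [hb, ← pow_mul, hdr]
  rw [hbn, ← mul_geom_sum b r] at h1
  have hb1 : b - 1 ≠ 0 := by
    have : (1 : ℤ) < b := one_lt_pow₀ (by exact_mod_cast ha) hdpos.ne'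
    omega
  have h2 := (mul_dvd_mul_iff_left hb1).mp h1
  have h3 : ((r : ℤ) ^ 2) ∣ ∑ i ∈ Finset.range r, b ^ i := by
    refine dvd_trans ?_ h2
    have : ((r ^ 2 : ℕ) : ℤ) ∣ (cyclotomic n ℤ).eval (a : ℤ) := Int.natCast_dvd.mpr hsq
    exact_mod_cast this
  rcases Nat.Prime.eq_two_or_odd' hr.out with hr2' | hodd
  · -- `r = 2`
    subst hr2'
    have hm1 : m = 1 := by simpa using hmr
    rw [hm1, mul_one] at hd
    have hk2 : 2 ≤ k := by
      by_contra hcon
      rw [show k = 1 by omega, hm1] at hnm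
      omega
    obtain ⟨e, he⟩ : 2 ∣ d := hd ▸ dvd_pow_self 2 (by omega)
    have hodd : ¬ (2 : ℤ) ∣ (a : ℤ) := by
      intro h2a
      rw [hm1, orderOf_eq_one_iff] at hord
      have h2a' : (2 : ℕ) ∣ a := by exact_mod_cast h2a
      rw [(ZMod.natCast_eq_zero_iff a 2).mpr h2a'] at hord
      exact zero_ne_one hord
    rw [Finset.sum_range_succ, Finset.sum_range_one, pow_zero, pow_one] at h3
    have hb2 : b = ((a : ℤ) ^ e) ^ 2 := by rw [hb, he, ← pow_mul, mul_comm]
    obtain ⟨c, hc⟩ : ∃ c : ℤ, (a : ℤ) ^ e = 2 * c + 1 := by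
      refine ⟨(a : ℤ) ^ e / 2, ?_⟩
      have : ¬ (2 : ℤ) ∣ (a : ℤ) ^ e := fun h' => hodd (Int.prime_two.dvd_of_dvd_pow h')
      omega
    rw [hb2, hc] at h3
    obtain ⟨t, ht⟩ := h3
    push_cast at ht
    have : (4 : ℤ) * (c ^ 2 + c - t) = -2 := by linarith [ht]
    omega
  · have hbmod : (r : ℤ) ∣ b - 1 := by
      rw [← ZMod.intCast_zmod_eq_zero_iff_dvd, hb]
      push_cast
      rw [sub_eq_zero, hd, mul_comm, pow_mul, ← hord, pow_orderOf_eq_one, one_pow]
    obtain ⟨c, hc⟩ := hbmod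
    have h4 := odd_sq_dvd_geom_sum₂_sub (R := ℤ) (a := 1) (b := c) (p := r) hodd
    rw [show (1 : ℤ) + (r : ℤ) * c = b by linarith [hc]] at h4
    simp only [one_pow, mul_one] at h4
    have h5 : (r : ℤ) ^ 2 ∣ (r : ℤ) := by
      have := dvd_sub h3 h4
      simpa using this
    have h6 : r ^ 2 ∣ r := by exact_mod_cast h5
    have := Nat.le_of_dvd (by omega) h6
    nlinarith [this]

theorem one_lt_cyclotomicValue {a n : ℕ} (ha : 1 < a) (hn : 1 < n) : 1 < cyclotomicValue a n := by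
  have h := sub_one_lt_natAbs_cyclotomic_eval (q := a) hn (by omega)
  have : (1 : ℕ) ≤ a - 1 := by omega
  exact lt_of_le_of_lt this h

theorem sub_one_pow_totient_lt {a n : ℕ} (ha : 1 < a) (hn : 1 < n) :
    (a - 1) ^ n.totient < cyclotomicValue a n :=
  sub_one_pow_totient_lt_natAbs_cyclotomic_eval hn (by omega)

theorem le_add_one_pow_totient {a : ℕ} (ha : 1 < a) (n : ℕ) :
    cyclotomicValue a n ≤ (a + 1) ^ n.totient := by
  have h := cyclotomic_eval_le_add_one_pow_totient (q := (a : ℝ)) (by exact_mod_cast ha) n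
  have e : (cyclotomic n ℝ).eval (a : ℝ) = (((cyclotomic n ℤ).eval (a : ℤ) : ℤ) : ℝ) := by
    rw [← map_cyclotomic n (Int.castRingHom ℝ), show (a : ℝ) = (Int.castRingHom ℝ) (a : ℤ) by simp,
      eval_map, eval₂_at_apply]
    simp
  rw [e] at h
  have hnn : 0 ≤ (cyclotomic n ℤ).eval (a : ℤ) := cyclotomic_nonneg n (by exact_mod_cast ha.le)
  have h' : (cyclotomic n ℤ).eval (a : ℤ) ≤ (((a + 1) ^ n.totient : ℕ) : ℤ) := by
    exact_mod_cast h
  rw [cyclotomicValue]
  omega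

theorem cyclotomicValue_mul_of_dvd (a : ℕ) {r d : ℕ} (hr : r.Prime) (h : r ∣ d) :
    cyclotomicValue a (d * r) = cyclotomicValue (a ^ r) d := by
  rw [cyclotomicValue, cyclotomicValue, ← cyclotomic_expand_eq_cyclotomic hr h ℤ, expand_eval]
  push_cast
  rfl

theorem cyclotomicValue_mul_of_not_dvd (a : ℕ) {r m : ℕ} (hr : r.Prime) (h : ¬ r ∣ m) :
    cyclotomicValue a (m * r) * cyclotomicValue a m = cyclotomicValue (a ^ r) m := by
  rw [cyclotomicValue, cyclotomicValue, cyclotomicValue, ← Int.natAbs_mul, ← eval_mul,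
    ← cyclotomic_expand_eq_cyclotomic_mul hr h ℤ, expand_eval]
  push_cast
  rfl

/-- Without a primitive prime divisor, `Φ_n(a)` is the largest prime divisor of `n`. -/
theorem eq_largest_prime {a n : ℕ} (ha : 1 < a) (hn : 2 < n)
    (hno : ∀ r : ℕ, r.Prime → r ∣ cyclotomicValue a n → r ∣ n) :
    (cyclotomicValue a n).Prime ∧ cyclotomicValue a n ∣ n := by
  set E := cyclotomicValue a n with hE
  have h1 := one_lt_cyclotomicValue (a := a) ha (show 1 < n by omega)
  rw [← hE] at h1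
  obtain ⟨r, hr, hrE⟩ := Nat.exists_prime_and_dvd (show E ≠ 1 by omega)
  haveI : Fact r.Prime := ⟨hr⟩
  obtain ⟨c, hc⟩ := hrE
  have hrn := hno r hr ⟨c, hc⟩
  rcases (show c = 0 ∨ c = 1 ∨ 1 < c by omega) with hc' | hc' | hc'
  · rw [hc', mul_zero] at hc; omega
  · rw [hc', mul_one] at hc; exact hc ▸ ⟨hr, hrn⟩
  · exfalso
    obtain ⟨q, hq, hqc⟩ := Nat.exists_prime_and_dvd (show c ≠ 1 by omega)
    haveI : Fact q.Prime := ⟨hq⟩
    have hqE : q ∣ E := hc ▸ hqc.mul_left r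
    have hqn := hno q hq hqE
    have hqr : q = r := le_antisymm (le_of_dvd_both (by omega) ⟨c, hc⟩ hrn hq hqn)
      (le_of_dvd_both (by omega) hqE hqn hr hrn)
    refine sq_not_dvd ha hn hrn ⟨c, hc⟩ ?_
    show r ^ 2 ∣ E
    rw [hc, pow_two]
    exact Nat.mul_dvd_mul_left r (hqr ▸ hqc)

/-- The core inequality. -/
theorem prime_dvd_lt_cyclotomicValue {a n p : ℕ} [hp : Fact p.Prime] (ha : 1 < a) (hn : 2 < n)
    (h6 : ¬ (a = 2 ∧ n = 6)) (hpn : p ∣ n) (hpE : p ∣ cyclotomicValue a n) :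
    p < cyclotomicValue a n := by
  have hp2 := hp.out.two_le
  rcases (show 3 ≤ a ∨ a = 2 by omega) with ha3 | rfl
  · have h1 := sub_one_pow_totient_lt (a := a) ha (show 1 < n by omega)
    have h2 : p - 1 ≤ n.totient := by
      rw [← Nat.totient_prime hp.out]
      exact Nat.le_of_dvd (Nat.totient_pos.mpr (by omega)) (Nat.totient_dvd_of_dvd hpn)
    have h3 : p ≤ 2 ^ (p - 1) := by
      have := Nat.lt_two_pow_self (n := p - 1)
      omega
    calc p ≤ 2 ^ (p - 1) := h3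
      _ ≤ (a - 1) ^ (p - 1) := Nat.pow_le_pow_left (by omega) _
      _ ≤ (a - 1) ^ n.totient := Nat.pow_le_pow_right (by omega) h2
      _ < _ := h1
  · obtain ⟨k, m, hnm, hm, hord, hmp⟩ := orderOf_of_dvd (a := 2) (r := p) (by omega) hpE
    have hm0 : 0 < m := Nat.pos_of_ne_zero fun h => hm (h ▸ dvd_zero p)
    have h2p : p < 2 ^ p - 1 ∨ p ≤ 2 := by
      rcases (show 3 ≤ p ∨ p ≤ 2 by omega) with h | h
      · left
        have := Nat.lt_two_pow_self (n := p - 1)
        have h3 : 2 ^ p = 2 * 2 ^ (p - 1) := by rw [← pow_succ']; congr 1; omega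
        omega
      · exact Or.inr h
    have hp3 : 3 ≤ p := by
      rcases (show p = 2 ∨ 3 ≤ p by omega) with rfl | h
      · exfalso
        have hm1 : m = 1 := by simpa using hmp
        rw [hm1, orderOf_eq_one_iff, (ZMod.natCast_eq_zero_iff 2 2).mpr dvd_rfl] at hord
        exact zero_ne_one hord
      · exact h
    have h2p' : p < 2 ^ p - 1 := h2p.resolve_right (by omega)
    have hm1 : 1 < m := by
      by_contra hcon
      have hm1 : m = 1 := by omega
      rw [hm1, orderOf_eq_one_iff] at hord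
      have h0 : ((1 : ℕ) : ZMod p) = 0 := by
        calc ((1 : ℕ) : ZMod p) = ((2 : ℕ) : ZMod p) - 1 := by push_cast; ring
          _ = 0 := by rw [hord, sub_self]
      rw [ZMod.natCast_eq_zero_iff, Nat.dvd_one] at h0
      omega
    rcases (show k = 0 ∨ k = 1 ∨ 2 ≤ k by omega) with rfl | rfl | hk
    · exact absurd (by simpa [hnm] using hpn) hm
    · -- `n = p m`
      rw [pow_one, mul_comm] at hnm
      rw [hnm] at h6 ⊢
      have hmul := cyclotomicValue_mul_of_not_dvd 2 hp.out hm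
      have hlow := sub_one_pow_totient_lt (a := 2 ^ p) (n := m) (by omega) hm1
      have hup : cyclotomicValue 2 m ≤ 3 ^ m.totient := le_add_one_pow_totient (by omega) m
      by_contra hle
      push Not at hle
      rcases (show p = 3 ∨ 5 ≤ p by
        rcases (show p = 3 ∨ p = 4 ∨ 5 ≤ p by omega) with h | h | h
        · exact Or.inl h
        · exact absurd (h ▸ hp.out) (by decide)
        · exact Or.inr h) with rfl | hp5
      · have : m = 2 := by
          have := Nat.le_of_dvd (by omega) hmp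
          omega
        exact h6 ⟨rfl, by omega⟩
      · have hphi : 0 < m.totient := Nat.totient_pos.mpr hm0
        have h3 : 3 * p ≤ 2 ^ p - 1 := by
          have h5 : ∀ j, 3 * (j + 5) + 1 ≤ 2 ^ (j + 5) := by
            intro j
            induction j with
            | zero => norm_num
            | succ j ih => rw [show j + 1 + 5 = (j + 5) + 1 by omega, pow_succ]; omega
          have := h5 (p - 5)
          rw [show p - 5 + 5 = p by omega] at this
          omega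
        have h4 : p * 3 ^ m.totient ≤ (2 ^ p - 1) ^ m.totient :=
          calc p * 3 ^ m.totient ≤ p ^ m.totient * 3 ^ m.totient :=
                Nat.mul_le_mul_right _ (Nat.le_self_pow hphi.ne' p)
            _ = (3 * p) ^ m.totient := by rw [mul_pow, mul_comm]
            _ ≤ (2 ^ p - 1) ^ m.totient := Nat.pow_le_pow_left h3 _
        have h6' : cyclotomicValue 2 (m * p) * cyclotomicValue 2 m ≤ p * 3 ^ m.totient :=
          Nat.mul_le_mul hle hup
        omega
    · -- `p² ∣ n`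
      have hd : n = p ^ (k - 1) * m * p := by
        rw [hnm, show p ^ k = p ^ (k - 1) * p by rw [← pow_succ]; congr 1; omega]; ring
      have hpd : p ∣ p ^ (k - 1) * m := Dvd.dvd.mul_right (dvd_pow_self p (by omega)) m
      have h1d : 1 < p ^ (k - 1) * m := by
        have := Nat.le_of_dvd (Nat.mul_pos (pow_pos hp.out.pos _) hm0) hpd
        omega
      rw [hd, cyclotomicValue_mul_of_dvd 2 hp.out hpd]
      have hlow := sub_one_pow_totient_lt (a := 2 ^ p) (n := p ^ (k - 1) * m) (by omega) h1d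
      have h := Nat.le_self_pow (n := (p ^ (k - 1) * m).totient)
        (Nat.totient_pos.mpr (by omega)).ne' (2 ^ p - 1)
      omega

/-- A primitive prime divisor of `a ^ n - 1` exists (Bang, Zsigmondy). -/
theorem exists_primitive_prime_divisor {a n : ℕ} (ha : 1 < a) (hn : 1 < n) (h6 : ¬ (a = 2 ∧ n = 6))
    (h2 : ¬ (n = 2 ∧ ∃ m : ℕ, a + 1 = 2 ^ m)) :
    ∃ r : ℕ, r.Prime ∧ r ∣ a ^ n - 1 ∧ ∀ k : ℕ, 0 < k → k < n → ¬ r ∣ a ^ k - 1 := by
  rcases (show n = 2 ∨ 2 < n by omega) with rfl | hn3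
  · obtain ⟨r, hr, hrd, hr2⟩ : ∃ r : ℕ, r.Prime ∧ r ∣ a + 1 ∧ r ≠ 2 := by
      by_contra hcon
      push Not at hcon
      exact h2 ⟨rfl, _, Nat.eq_prime_pow_of_unique_prime_dvd (by omega) (fun {d} hd hdd => hcon d hd hdd)⟩
    refine ⟨r, hr, ?_, fun k hk hk2 hd => hr2 ?_⟩
    · rw [show a ^ 2 - 1 = (a + 1) * (a - 1) by simpa using Nat.sq_sub_sq a 1]
      exact hrd.mul_right _
    · rw [show k = 1 by omega, pow_one] at hd
      have : r ∣ (a + 1) - (a - 1) := Nat.dvd_sub hrd hd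
      rw [show (a + 1) - (a - 1) = 2 by omega] at this
      exact (Nat.prime_dvd_prime_iff_eq hr Nat.prime_two).mp this
  · obtain ⟨r, hr, hrE, hrn⟩ : ∃ r : ℕ, r.Prime ∧ r ∣ cyclotomicValue a n ∧ ¬ r ∣ n := by
      by_contra hcon
      push Not at hcon
      obtain ⟨hp, hpn⟩ := eq_largest_prime ha hn3 hcon
      haveI := Fact.mk hp
      exact (prime_dvd_lt_cyclotomicValue ha hn3 h6 hpn dvd_rfl).false
    haveI : Fact r.Prime := ⟨hr⟩
    obtain ⟨k, m, hnm, -, hord, -⟩ := orderOf_of_dvd (by omega) hrE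
    have : n = m := by
      rcases k with _ | k
      · simpa using hnm
      · exact absurd (hnm ▸ (dvd_pow_self r (Nat.succ_ne_zero k)).mul_right m) hrn
    exact ⟨r, hr, (primitive_of_orderOf (by omega) (hord.trans this.symm))⟩

end CfsgLib.Zsigmondy
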